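import Cfsg.Agent.H384.TwoTransRed
import Cfsg.Prelude.Def_KGroupFacts

/-!
# The index of the socle divides the order of the outer automorphism group
-/

set_option autoImplicit false

namespace Cfsg.Agent.H384.TwoTrans.AS

open MulAction

universe u v

variable {G : Type u} {Ω : Type v} [Group G] [MulAction G Ω] {T : Subgroup G}

theorem center_eq_bot (A : AS G Ω T) : Subgroup.center ↥T = ⊥ := by
  rw [eq_bot_iff]
  intro z hz
  rw [Subgroup.mem_bot]
  have h2 : (z : G) ∈ Subgroup.centralizer (T : Set G) := by
    rw [Subgroup.mem_centralizer_iff]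
    intro t ht
    exact congrArg Subtype.val (Subgroup.mem_center_iff.1 hz ⟨t, ht⟩)
  rw [A.cent, Subgroup.mem_bot] at h2
  exact Subtype.ext h2

/-- `G` embeds in `Aut T` -/
theorem card_dvd_mulAut (A : AS G Ω T) : Nat.card G ∣ Nat.card (MulAut ↥T) := by
  have := A.normal
  have := A.finG
  have hinj : Function.Injective (MulAut.conjNormal : G →* MulAut ↥T) := by
    rw [← MonoidHom.ker_eq_bot_iff, eq_bot_iff]
    intro g hg
    rw [MonoidHom.mem_ker] at hg
    rw [← A.cent, Subgroup.mem_centralizer_iff]
    intro t ht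
    have h1 := congrArg Subtype.val (DFunLike.congr_fun hg (⟨t, ht⟩ : ↥T))
    rw [MulAut.conjNormal_apply] at h1
    have h2 : g * t * g⁻¹ = t := h1
    rw [mul_inv_eq_iff_eq_mul] at h2
    exact h2.symm
  exact Subgroup.card_dvd_of_injective _ hinj

theorem index_dvd_of_card (A : AS G Ω T) {c : ℕ} (h : Nat.card (MulAut ↥T) = c * Nat.card ↥T) :
    T.index ∣ c := by
  have := A.finG
  have h1 := A.card_dvd_mulAut
  rw [h, ← T.index_mul_card] at h1
  exact Nat.dvd_of_mul_dvd_mul_right Nat.card_pos h1

/-- `|Aut X| = |Out X| |X|` for a group with trivial centre -/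
theorem card_mulAut {X : Type*} [Group X] [Finite X] (hX : Subgroup.center X = ⊥) :
    Nat.card (MulAut X) = Nat.card (Cfsg.Out X) * Nat.card X := by
  have h1 : Nat.card (Cfsg.Inn X) = Nat.card X := by
    have hinj : Function.Injective (MulAut.conj : X →* MulAut X) := by
      rw [← MonoidHom.ker_eq_bot_iff, eq_bot_iff]
      intro g hg
      rw [MonoidHom.mem_ker] at hg
      rw [← hX, Subgroup.mem_center_iff]
      intro t
      have h1 := DFunLike.congr_fun hg t
      rw [MulAut.conj_apply, MulAut.one_apply, mul_inv_eq_iff_eq_mul] at h1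
      exact h1.symm
    exact (Nat.card_congr (MonoidHom.ofInjective hinj).toEquiv).symm
  have h2 := Subgroup.card_eq_card_quotient_mul_card_subgroup (Cfsg.Inn X)
  rw [h1] at h2
  exact h2

theorem index_dvd_out (A : AS G Ω T) {X : Type*} [Group X] (e : ↥T ≃* X) :
    T.index ∣ Nat.card (Cfsg.Out X) := by
  have := A.finT
  have : Finite X := Finite.of_equiv _ e.toEquiv
  have hX : Subgroup.center X = ⊥ := by
    rw [eq_bot_iff]
    intro z hz
    rw [Subgroup.mem_bot]
    have h1 : e.symm z ∈ Subgroup.center ↥T := by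
      rw [Subgroup.mem_center_iff]
      intro t
      have h2 := Subgroup.mem_center_iff.1 hz (e t)
      apply e.injective
      rw [map_mul, map_mul, e.apply_symm_apply, h2]
    rw [A.center_eq_bot, Subgroup.mem_bot] at h1
    rw [← e.apply_symm_apply z, h1, map_one]
  apply A.index_dvd_of_card
  have h3 : Nat.card (MulAut ↥T) = Nat.card (MulAut X) := Nat.card_congr (MulAut.congr e).toEquiv
  rw [h3, card_mulAut hX, Nat.card_congr e.toEquiv]

theorem pow_index_mem (A : AS G Ω T) (g : G) : g ^ T.index ∈ T := by
  have := A.normal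
  have := A.finG
  exact T.pow_index_mem g

/-- an element of order prime to the index lies in `T` -/
theorem mem_of_coprime (A : AS G Ω T) {g : G} {c : ℕ} (hc : T.index ∣ c) (h : (orderOf g).Coprime c) : g ∈ T := by
  have h1 := A.pow_index_mem g
  have h2 : (orderOf g).Coprime T.index := h.coprime_dvd_right hc
  have h3 := (Nat.Coprime.symm h2)
  have h4 : g ∈ Subgroup.zpowers (g ^ T.index) := by
    have h5 : orderOf (g ^ T.index) = orderOf g := Nat.Coprime.orderOf_pow h2
    have := A.finG
    have h6 : Subgroup.zpowers (g ^ T.index) = Subgroup.zpowers g := by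
      apply Subgroup.eq_of_le_of_card_ge
      · rw [Subgroup.zpowers_le]
        exact Subgroup.pow_mem _ (Subgroup.mem_zpowers g) _
      · rw [Nat.card_zpowers, Nat.card_zpowers, h5]
    rw [h6]
    exact Subgroup.mem_zpowers g
  have h5 : Subgroup.zpowers (g ^ T.index) ≤ T := by
    rw [Subgroup.zpowers_le]; exact h1
  exact h5 h4

end Cfsg.Agent.H384.TwoTrans.AS
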