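import Mathlib
import Cfsg.Prelude.Def_Classification2
import Cfsg.Prelude.Def_LieTypeChar

/-!
# HUB H1: 2-transitive groups with non-abelian socle (interface, helper384)

* `AS G Ω T` : `G` finite acts faithfully and 2-transitively on the finite set `Ω`, and `T` is a normal subgroup of
  `G`, non-abelian simple, with trivial centralizer;
* `Known2 T n` : the list (isomorphism type of `T`, degree `n`); it is proposition valued, the constructors
  overlap in the usual coincidences so that every family row can be stated with its own constructors.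
-/

set_option autoImplicit false

namespace Cfsg.Agent.H384.TwoTrans

universe u v

/-- `G` is a finite group acting faithfully and 2-transitively on `Ω`, `T` is a non-abelian simple normal subgroup
with trivial centralizer. -/
structure AS (G : Type u) (Ω : Type v) [Group G] [MulAction G Ω] (T : Subgroup G) : Prop where
  finG : Finite G
  finΩ : Finite Ω
  faithful : FaithfulSMul G Ω
  two : MulAction.IsMultiplyPretransitive G Ω 2
  normal : T.Normal
  simple : IsSimpleGroup ↥T
  nonab : ¬ IsMulCommutative ↥T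
  cent : Subgroup.centralizer (T : Set G) = ⊥

/-- The list of the pairs (socle, degree) of the 2-transitive groups with non-abelian socle. -/
inductive Known2 (T : Type u) [Group T] : ℕ → Prop
  | alt (n : ℕ) (hn : 5 ≤ n) (e : Nonempty (T ≃* ↥(alternatingGroup (Fin n)))) : Known2 T n
  | psl (F : Type) [Field F] [Fintype F] (d n : ℕ) (hd : 2 ≤ d) (hd2 : d = 2 → 4 ≤ Fintype.card F)
      (e : Nonempty (T ≃* Matrix.ProjectiveSpecialLinearGroup (Fin d) F))
      (hn : n * (Fintype.card F - 1) = Fintype.card F ^ d - 1) : Known2 T n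
  | sp (F : Type) [Field F] [Fintype F] (m n : ℕ) (hF : Fintype.card F = 2) (hm : 3 ≤ m)
      (e : Nonempty (T ≃* Cfsg.PSp m F))
      (hn : n = 2 ^ (m - 1) * (2 ^ m + 1) ∨ n = 2 ^ (m - 1) * (2 ^ m - 1)) : Known2 T n
  | psu (F : Type) [Field F] [Fintype F] (q n : ℕ) (hq : 3 ≤ q) (hF : Fintype.card F = q ^ 2)
      (e : Nonempty (T ≃* Cfsg.PSU 3 F q)) (hn : n = q ^ 3 + 1) : Known2 T n
  | sz (F : Type) [Field F] [Fintype F] (m n : ℕ) (hm : 1 ≤ m) (hF : Fintype.card F = 2 ^ (2 * m + 1))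
      (e : Nonempty (T ≃* ↥(Cfsg.Lie.Sz F (2 ^ (m + 1))))) (hn : n = Fintype.card F ^ 2 + 1) : Known2 T n
  | ree (K : Type) [Field K] [Fintype K] (m n : ℕ) (hm : 1 ≤ m) (hK : Fintype.card K = 3 ^ (2 * m + 1))
      (e : Nonempty (T ≃* ↥(Cfsg.Lie.twistedG2 K (3 ^ m)))) (hn : n = Fintype.card K ^ 3 + 1) : Known2 T n
  /-- `PSL₂(8)` on 28 points (the group is then `PΓL₂(8) = ²G₂(3)`) -/
  | psl2_8 (F : Type) [Field F] [Fintype F] (hF : Fintype.card F = 8)
      (e : Nonempty (T ≃* Matrix.ProjectiveSpecialLinearGroup (Fin 2) F)) : Known2 T 28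
  /-- `PSL₂(9) = A₆` on 6 points -/
  | psl2_9 (F : Type) [Field F] [Fintype F] (hF : Fintype.card F = 9)
      (e : Nonempty (T ≃* Matrix.ProjectiveSpecialLinearGroup (Fin 2) F)) : Known2 T 6
  /-- `PSL₂(11)` on 11 points -/
  | psl2_11 (F : Type) [Field F] [Fintype F] (hF : Fintype.card F = 11)
      (e : Nonempty (T ≃* Matrix.ProjectiveSpecialLinearGroup (Fin 2) F)) : Known2 T 11
  /-- `PSL₄(2) = A₈` on 8 points -/
  | psl4_2 (F : Type) [Field F] [Fintype F] (hF : Fintype.card F = 2)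
      (e : Nonempty (T ≃* Matrix.ProjectiveSpecialLinearGroup (Fin 4) F)) : Known2 T 8
  | a7 (e : Nonempty (T ≃* ↥(alternatingGroup (Fin 7)))) : Known2 T 15
  | m11 (h : Cfsg.Spor.IsoM11 T) : Known2 T 11
  | m11' (h : Cfsg.Spor.IsoM11 T) : Known2 T 12
  | m12 (h : Cfsg.Spor.IsoM12 T) : Known2 T 12
  | m22 (h : Cfsg.Spor.IsoM22 T) : Known2 T 22
  | m23 (h : Cfsg.Spor.IsoM23 T) : Known2 T 23
  | m24 (h : Cfsg.Spor.IsoM24 T) : Known2 T 24
  | hs (h : Cfsg.Spor.IsoHS T) : Known2 T 176
  | co3 (h : Cfsg.Spor.IsoCo3 T) : Known2 T 276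

/-- The Lie type part of the list. -/
inductive KnownLie2 (T : Type u) [Group T] : ℕ → Prop
  | psl (F : Type) [Field F] [Fintype F] (d n : ℕ) (hd : 2 ≤ d) (hd2 : d = 2 → 4 ≤ Fintype.card F)
      (e : Nonempty (T ≃* Matrix.ProjectiveSpecialLinearGroup (Fin d) F))
      (hn : n * (Fintype.card F - 1) = Fintype.card F ^ d - 1) : KnownLie2 T n
  | sp (F : Type) [Field F] [Fintype F] (m n : ℕ) (hF : Fintype.card F = 2) (hm : 3 ≤ m)
      (e : Nonempty (T ≃* Cfsg.PSp m F))
      (hn : n = 2 ^ (m - 1) * (2 ^ m + 1) ∨ n = 2 ^ (m - 1) * (2 ^ m - 1)) : KnownLie2 T n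
  | psu (F : Type) [Field F] [Fintype F] (q n : ℕ) (hq : 3 ≤ q) (hF : Fintype.card F = q ^ 2)
      (e : Nonempty (T ≃* Cfsg.PSU 3 F q)) (hn : n = q ^ 3 + 1) : KnownLie2 T n
  | sz (F : Type) [Field F] [Fintype F] (m n : ℕ) (hm : 1 ≤ m) (hF : Fintype.card F = 2 ^ (2 * m + 1))
      (e : Nonempty (T ≃* ↥(Cfsg.Lie.Sz F (2 ^ (m + 1))))) (hn : n = Fintype.card F ^ 2 + 1) : KnownLie2 T n
  | ree (K : Type) [Field K] [Fintype K] (m n : ℕ) (hm : 1 ≤ m) (hK : Fintype.card K = 3 ^ (2 * m + 1))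
      (e : Nonempty (T ≃* ↥(Cfsg.Lie.twistedG2 K (3 ^ m)))) (hn : n = Fintype.card K ^ 3 + 1) : KnownLie2 T n
  | psl2_8 (F : Type) [Field F] [Fintype F] (hF : Fintype.card F = 8)
      (e : Nonempty (T ≃* Matrix.ProjectiveSpecialLinearGroup (Fin 2) F)) : KnownLie2 T 28
  | psl2_9 (F : Type) [Field F] [Fintype F] (hF : Fintype.card F = 9)
      (e : Nonempty (T ≃* Matrix.ProjectiveSpecialLinearGroup (Fin 2) F)) : KnownLie2 T 6
  | psl2_11 (F : Type) [Field F] [Fintype F] (hF : Fintype.card F = 11)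
      (e : Nonempty (T ≃* Matrix.ProjectiveSpecialLinearGroup (Fin 2) F)) : KnownLie2 T 11
  | psl4_2 (F : Type) [Field F] [Fintype F] (hF : Fintype.card F = 2)
      (e : Nonempty (T ≃* Matrix.ProjectiveSpecialLinearGroup (Fin 4) F)) : KnownLie2 T 8

variable {T : Type u} [Group T] {T' : Type v} [Group T']

theorem KnownLie2.known {n : ℕ} (h : KnownLie2 T n) : Known2 T n := by
  cases h with
  | psl F d n hd hd2 e hn => exact .psl F d n hd hd2 e hn
  | sp F m n hF hm e hn => exact .sp F m n hF hm e hn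
  | psu F q n hq hF e hn => exact .psu F q n hq hF e hn
  | sz F m n hm hF e hn => exact .sz F m n hm hF e hn
  | ree K m n hm hK e hn => exact .ree K m n hm hK e hn
  | psl2_8 F hF e => exact .psl2_8 F hF e
  | psl2_9 F hF e => exact .psl2_9 F hF e
  | psl2_11 F hF e => exact .psl2_11 F hF e
  | psl4_2 F hF e => exact .psl4_2 F hF e

theorem KnownLie2.congr (f : T ≃* T') {n : ℕ} (h : KnownLie2 T n) : KnownLie2 T' n := by
  cases h with
  | psl F d n hd hd2 e hn => exact .psl F d n hd hd2 (e.map f.symm.trans) hn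
  | sp F m n hF hm e hn => exact .sp F m n hF hm (e.map f.symm.trans) hn
  | psu F q n hq hF e hn => exact .psu F q n hq hF (e.map f.symm.trans) hn
  | sz F m n hm hF e hn => exact .sz F m n hm hF (e.map f.symm.trans) hn
  | ree K m n hm hK e hn => exact .ree K m n hm hK (e.map f.symm.trans) hn
  | psl2_8 F hF e => exact .psl2_8 F hF (e.map f.symm.trans)
  | psl2_9 F hF e => exact .psl2_9 F hF (e.map f.symm.trans)
  | psl2_11 F hF e => exact .psl2_11 F hF (e.map f.symm.trans)
  | psl4_2 F hF e => exact .psl4_2 F hF (e.map f.symm.trans)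

theorem Known2.congr (f : T ≃* T') {n : ℕ} (h : Known2 T n) : Known2 T' n := by
  cases h with
  | alt n hn e => exact .alt n hn (e.map f.symm.trans)
  | psl F d n hd hd2 e hn => exact .psl F d n hd hd2 (e.map f.symm.trans) hn
  | sp F m n hF hm e hn => exact .sp F m n hF hm (e.map f.symm.trans) hn
  | psu F q n hq hF e hn => exact .psu F q n hq hF (e.map f.symm.trans) hn
  | sz F m n hm hF e hn => exact .sz F m n hm hF (e.map f.symm.trans) hn
  | ree K m n hm hK e hn => exact .ree K m n hm hK (e.map f.symm.trans) hn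
  | psl2_8 F hF e => exact .psl2_8 F hF (e.map f.symm.trans)
  | psl2_9 F hF e => exact .psl2_9 F hF (e.map f.symm.trans)
  | psl2_11 F hF e => exact .psl2_11 F hF (e.map f.symm.trans)
  | psl4_2 F hF e => exact .psl4_2 F hF (e.map f.symm.trans)
  | a7 e => exact .a7 (e.map f.symm.trans)
  | m11 h => exact .m11 (h.map f.symm.trans)
  | m11' h => exact .m11' (h.map f.symm.trans)
  | m12 h => exact .m12 (h.map f.symm.trans)
  | m22 h => exact .m22 (h.map f.symm.trans)
  | m23 h => exact .m23 (h.map f.symm.trans)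
  | m24 h => exact .m24 (h.map f.symm.trans)
  | hs h => exact .hs (h.map f.symm.trans)
  | co3 h => exact .co3 (h.map f.symm.trans)

end Cfsg.Agent.H384.TwoTrans
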