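import Cfsg.Agent.H384.TwoTrans
import Cfsg.Agent.PermutationGroups.TwoTransitiveNormal
import Cfsg.Agent.LieClassical.Order72

/-!
# HUB H1: the reduction to almost simple groups (helper384)

* `reduction` : Burnside; a 2-transitive group has a regular normal elementary abelian subgroup or a normal
  non-abelian simple subgroup `T` with trivial centralizer;
* basic facts about `AS G Ω T` : `T` is transitive, primitive, contained in every nontrivial normal subgroup.
-/

set_option autoImplicit false

namespace Cfsg.Agent.H384.TwoTrans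

open MulAction Cfsg.Agent.PermutationGroups.TwoTransitiveNormal

universe u v

variable {G : Type u} {Ω : Type v} [Group G] [MulAction G Ω]

theorem exists_min_normal (G : Type*) [Group G] [Finite G] [Nontrivial G] :
    ∃ N : Subgroup G, N.Normal ∧ N ≠ ⊥ ∧ ∀ M : Subgroup G, M.Normal → M ≤ N → M = ⊥ ∨ M = N := by
  classical
  have hfin : Set.Finite {N : Subgroup G | N.Normal ∧ N ≠ ⊥} := Set.toFinite _
  obtain ⟨N, hN⟩ := hfin.exists_minimal ⟨⊤, inferInstance, top_ne_bot⟩
  refine ⟨N, hN.prop.1, hN.prop.2, fun M hM hle => ?_⟩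
  by_cases h : M = ⊥
  · exact Or.inl h
  · exact Or.inr (le_antisymm hle (hN.le_of_le ⟨hM, h⟩ hle))

theorem two_pts (h2 : IsMultiplyPretransitive G Ω 2) (a b c d : Ω) (hab : a ≠ b) (hcd : c ≠ d) :
    ∃ g : G, g • a = c ∧ g • b = d :=
  MulAction.is_two_pretransitive_iff.mp h2 hab hcd

/-- **Burnside.** -/
theorem reduction [Finite G] [Finite Ω] [FaithfulSMul G Ω] (h2 : IsMultiplyPretransitive G Ω 2)
    (h3 : 3 ≤ Nat.card Ω) :
    (∃ N : Subgroup G, N.Normal ∧ N ≠ ⊥ ∧ IsMulCommutative ↥N ∧ (∃ p : ℕ, p.Prime ∧ ∀ n ∈ N, n ^ p = 1) ∧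
      (∀ x y : Ω, ∃ n ∈ N, n • x = y) ∧ ∀ x : Ω, ∀ n ∈ N, n • x = x → n = 1) ∨
    ∃ T : Subgroup G, AS G Ω T := by
  have hntΩ : Nontrivial Ω := Finite.one_lt_card_iff_nontrivial.1 (by omega)
  have h2' := two_pts h2
  have hprim : IsPreprimitive G Ω := isPreprimitive_of_is_two_pretransitive h2
  have hntG : Nontrivial G := by
    by_contra hcon
    rw [not_nontrivial_iff_subsingleton] at hcon
    obtain ⟨a, b, hab⟩ := exists_pair_ne Ω
    obtain ⟨g, hg, -⟩ := h2' a b b a hab hab.symm
    rw [Subsingleton.elim g 1, one_smul] at hg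
    exact hab hg
  have hne : Nonempty Ω := inferInstance
  obtain ⟨N, hN, hNbot, hmin⟩ := exists_min_normal G
  have htr : IsPretransitive N Ω := isPretransitive_of_normal_of_ne_bot N hNbot
  have hreg : (IsMulCommutative ↥N ∧ (∃ p : ℕ, p.Prime ∧ ∀ n ∈ N, n ^ p = 1)) →
      (∀ a : Ω, stabilizer N a = ⊥) → ∃ N : Subgroup G, N.Normal ∧ N ≠ ⊥ ∧ IsMulCommutative ↥N ∧
        (∃ p : ℕ, p.Prime ∧ ∀ n ∈ N, n ^ p = 1) ∧
        (∀ x y : Ω, ∃ n ∈ N, n • x = y) ∧ ∀ x : Ω, ∀ n ∈ N, n • x = x → n = 1 := by
    rintro ⟨h1, h3⟩ h4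
    refine ⟨N, hN, hNbot, h1, h3, ?_, ?_⟩
    · intro x y
      obtain ⟨⟨n, hn⟩, h⟩ := exists_smul_eq N x y
      exact ⟨n, hn, h⟩
    · intro x n hn hx
      have : (⟨n, hn⟩ : N) ∈ stabilizer N x := hx
      rw [h4 x, Subgroup.mem_bot] at this
      exact congrArg Subtype.val this
  by_cases hst : ∀ a : Ω, stabilizer N a = ⊥
  · left
    exact hreg (regular_normal_elementary_abelian h2' N hst) hst
  rcases burnside_minimal_normal h2' N hNbot hmin with ⟨h1, h4, h5⟩ | ⟨hs, hp⟩
  · exact absurd h5 hst
  right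
  push Not at hst
  obtain ⟨a, ha⟩ := hst
  obtain ⟨⟨x, hx⟩, hx0⟩ := Subgroup.ne_bot_iff_exists_ne_one.1 ha
  have hx1 : x ≠ 1 := fun h => hx0 (Subtype.ext h)
  have hfix : (x : G) • a = a := hx
  have hx1' : (x : G) ≠ 1 := fun h => hx1 (Subtype.ext h)
  refine ⟨N, inferInstance, inferInstance, inferInstance, h2, hN, hs, ?_, ?_⟩
  · intro hc
    apply hx1'
    refine eq_of_commute_of_transitive N (a := a) ?_ hfix
    intro m hm
    exact congrArg Subtype.val (hc.is_comm.comm (⟨m, hm⟩ : N) x)
  · by_contra hC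
    have htrC : IsPretransitive (Subgroup.centralizer (N : Set G)) Ω :=
      isPretransitive_of_normal_of_ne_bot _ hC
    apply hx1'
    refine eq_of_commute_of_transitive (Subgroup.centralizer (N : Set G)) (a := a) ?_ hfix
    intro m hm
    exact ((Subgroup.mem_centralizer_iff.1 hm) x x.2).symm

variable {T : Subgroup G}

namespace AS

variable (A : AS G Ω T)
include A

theorem two' (a b c d : Ω) (hab : a ≠ b) (hcd : c ≠ d) : ∃ g : G, g • a = c ∧ g • b = d :=
  two_pts A.two a b c d hab hcd

theorem ne_bot : T ≠ ⊥ := by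
  have := A.simple
  intro h
  have h1 : Nontrivial T := inferInstance
  rw [h] at h1
  exact absurd h1 (not_nontrivial_iff_subsingleton.2 inferInstance)

theorem nontrivialΩ : Nontrivial Ω := by
  have := A.simple
  have := A.faithful
  by_contra hcon
  rw [not_nontrivial_iff_subsingleton] at hcon
  apply A.ne_bot
  rw [eq_bot_iff]
  intro x _
  rw [Subgroup.mem_bot]
  apply FaithfulSMul.eq_of_smul_eq_smul (α := Ω)
  intro a
  exact Subsingleton.elim _ _

theorem isPreprimitive : IsPreprimitive G Ω :=
  have := A.nontrivialΩ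
  isPreprimitive_of_is_two_pretransitive A.two

theorem finT : Finite T := by
  have := A.finG
  infer_instance

theorem faithfulT : FaithfulSMul T Ω := by
  have := A.faithful
  exact ⟨fun h => Subtype.ext (FaithfulSMul.eq_of_smul_eq_smul (α := Ω) h)⟩

theorem transitive : IsPretransitive T Ω := by
  have := A.isPreprimitive
  have := A.faithful
  have := A.normal
  exact isPretransitive_of_normal_of_ne_bot T A.ne_bot

/-- every nontrivial normal subgroup contains `T` -/
theorem le_of_normal (M : Subgroup G) (hM : M.Normal) (hM1 : M ≠ ⊥) : T ≤ M := by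
  have := A.normal
  have hs := A.simple
  have h1 : (M ⊓ T).subgroupOf T = ⊥ ∨ (M ⊓ T).subgroupOf T = ⊤ := by
    have : ((M ⊓ T).subgroupOf T).Normal := inferInstance
    exact hs.eq_bot_or_eq_top_of_normal _ this
  rcases h1 with h1 | h1
  · exfalso
    rw [Subgroup.subgroupOf_eq_bot, disjoint_iff] at h1
    have h2 : M ⊓ T = ⊥ := by rwa [inf_assoc, inf_idem] at h1
    have h3 : M ≤ Subgroup.centralizer (T : Set G) := by
      intro m hm
      rw [Subgroup.mem_centralizer_iff]
      intro t ht
      exact (Subgroup.commute_of_normal_of_disjoint T M inferInstance hM (by rw [disjoint_iff, inf_comm]; exact h2)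
        t m ht hm).eq
    rw [A.cent] at h3
    exact hM1 (le_bot_iff.1 h3)
  · rw [Subgroup.subgroupOf_eq_top] at h1
    exact h1.trans inf_le_left

theorem primitiveT : IsPreprimitive T Ω := by
  have := A.finG
  have := A.finΩ
  have := A.faithful
  have := A.normal
  have := A.nontrivialΩ
  rcases burnside_minimal_normal A.two' T A.ne_bot (by
    intro M hM hle
    by_cases h : M = ⊥
    · exact Or.inl h
    · exact Or.inr (le_antisymm hle (A.le_of_normal M hM h))) with h | h
  · exact absurd h.1 A.nonab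
  · exact h.2

theorem five_le : 5 ≤ Nat.card Ω := by
  have := A.finΩ
  have := A.faithfulT
  have := A.finT
  by_contra hcon
  push Not at hcon
  have hdvd : Nat.card T ∣ 72 := by
    have h1 : Nat.card T ∣ Nat.card (Equiv.Perm Ω) :=
      Subgroup.card_dvd_of_injective (MulAction.toPermHom T Ω) MulAction.toPerm_injective
    rw [Nat.card_perm] at h1
    have h2 : (Nat.card Ω).factorial ∣ 24 := by
      have : (Nat.card Ω).factorial ∣ Nat.factorial 4 := Nat.factorial_dvd_factorial (by omega)
      exact this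
    exact h1.trans (h2.trans (by norm_num))
  have hsol := Cfsg.Agent.LieClassical.Order72.isSolvable_of_card_dvd hdvd
  have hs := A.simple
  exact A.nonab ⟨⟨IsSimpleGroup.comm_iff_isSolvable.2 hsol⟩⟩

/-- a point stabiliser in `T` has index `|Ω|` -/
theorem index_stabilizer (a : Ω) : (stabilizer T a).index = Nat.card Ω := by
  have := A.transitive
  rw [MulAction.index_stabilizer_of_transitive]

theorem card_mul (a : Ω) : Nat.card Ω * Nat.card (stabilizer T a) = Nat.card T := by
  rw [← A.index_stabilizer a]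
  exact (stabilizer T a).index_mul_card

theorem two_ne (a : Ω) : ∃ b : Ω, b ≠ a := by
  have := A.nontrivialΩ
  exact exists_ne a

/-- `T` is 3/2-transitive: the order of the stabiliser of two points does not depend on the points. -/
theorem card_inf_stabilizer {a b c d : Ω} (hab : a ≠ b) (hcd : c ≠ d) :
    Nat.card ↥(stabilizer T a ⊓ stabilizer T b) = Nat.card ↥(stabilizer T c ⊓ stabilizer T d) := by
  have := A.normal
  have := A.finG
  have := A.finΩ
  exact card_inf_stabilizer_eq A.two' T hab hcd

theorem card_orbit_mul (a b : Ω) : Nat.card (orbit (stabilizer T a) b) *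
    Nat.card ↥(stabilizer T a ⊓ stabilizer T b) = Nat.card (stabilizer T a) := by
  have := A.finT
  rw [← card_eq_index_mul (stabilizer T a) b, MulAction.index_stabilizer, Nat.card_coe_set_eq]

/-- all the nontrivial orbits of a point stabiliser in `T` have the same length -/
theorem card_orbit_eq {a b c d : Ω} (hab : a ≠ b) (hcd : c ≠ d) :
    Nat.card (orbit (stabilizer T a) b) = Nat.card (orbit (stabilizer T c) d) := by
  have := A.finT
  have h1 := A.card_orbit_mul a b
  have h2 := A.card_orbit_mul c d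
  have h3 := A.card_mul a
  have h4 := A.card_mul c
  have hpos : 0 < Nat.card Ω := by have := A.five_le; omega
  have h5 : Nat.card (stabilizer T a) = Nat.card (stabilizer T c) :=
    Nat.eq_of_mul_eq_mul_left hpos (h3.trans h4.symm)
  rw [A.card_inf_stabilizer hab hcd, h5] at h1
  have hpos2 : 0 < Nat.card ↥(stabilizer T c ⊓ stabilizer T d) := Nat.card_pos
  exact Nat.eq_of_mul_eq_mul_right hpos2 (h1.trans h2.symm)

/-- the common length of the nontrivial suborbits of `T` divides `|Ω| - 1` -/
theorem card_orbit_dvd {a b : Ω} (hab : a ≠ b) :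
    Nat.card (orbit (stabilizer T a) b) ∣ Nat.card Ω - 1 := by
  have := A.finΩ
  have key : Nat.card (orbit (stabilizer T a) b) ∣ ({x : Ω | x ≠ a} : Set Ω).ncard := by
    refine dvd_ncard_of_index_stabilizer_eq (G := stabilizer T a) (Set.toFinite _) ?_ ?_
    · intro g x hx h
      apply hx
      have h1 : g • a = a := g.2
      have h2 : g • x = g • a := by rw [h1]; exact h
      exact smul_left_cancel g h2
    · intro x hx
      rw [MulAction.index_stabilizer, ← Nat.card_coe_set_eq]
      exact A.card_orbit_eq (Ne.symm hx) hab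
  have h1 : ({x : Ω | x ≠ a} : Set Ω).ncard = Nat.card Ω - 1 := by
    have h2 : ({x : Ω | x ≠ a} : Set Ω) = ({a} : Set Ω)ᶜ := by
      ext x; simp
    rw [h2, Set.ncard_compl, Set.ncard_singleton]
  rwa [h1] at key

theorem card_orbit_dvd' (a b : Ω) : Nat.card (orbit (stabilizer T a) b) ∣ Nat.card (stabilizer T a) :=
  Dvd.intro _ (A.card_orbit_mul a b)

end AS

end Cfsg.Agent.H384.TwoTrans
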