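import Cfsg.Agent.H384.TwoTransRows

/-!
# HUB H1: the 2-transitive groups with non-abelian socle (helper384 and team)

`main` : if `G` is an almost simple group with socle `T` acting 2-transitively and faithfully on `Ω` (`AS G Ω T`), then
`(T, |Ω|)` is in the list `Known2`.  The hypothesis `hS` is the classification of the finite simple groups (S0000).
`reduction` : a finite 2-transitive group has a regular normal elementary abelian subgroup or is almost simple (Burnside).

Rows: helper503 (alternating groups, Tits, Suz), helper410 (Lie type in characteristic not dividing the degree, Co1,
Co2), helper436, helper221 (PSL), helper387 (PSp), helper667 (PSU), helper353 (orthogonal groups), helper400,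
helper392 (exceptional groups), helper125 (Sz, Ree), helper408, helper249, helper125, helper969, helper225 (index a
power of the characteristic), helper510, helper970, helper968, helper904, helper555, helper354, helper436, helper384
(sporadic groups).
-/

set_option autoImplicit false

namespace Cfsg.Agent.H384.TwoTransMain

open MulAction Cfsg Cfsg.Agent.H384.TwoTrans

universe u v

/-- **The 2-transitive groups with non-abelian socle.** -/
theorem main (hS : ∀ (X : Type u) [Group X] [Finite X] [IsSimpleGroup X], IsKnownSimple' X)
    {G : Type u} {Ω : Type v} [Group G] [MulAction G Ω] {T : Subgroup G} (A : AS G Ω T) :
    Known2 ↥T (Nat.card Ω) :=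
  (rows.{u, v} hS).main hS A

end Cfsg.Agent.H384.TwoTransMain
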