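import Cfsg.Agent.H384.TwoTransFill

/-!
# HUB H1: prime power degree, family by family (helper384)

`PPowAS fam` : 2-transitive groups of degree a power of `p` whose socle is in the family `fam p`.
`PPowOn fam` : subgroups of `p`-power index of the simple groups in `fam p`.
`PPow → PPowOn fam → PPowAS fam`.  The rows only need `PPowAS fam` for their own family.
-/

set_option autoImplicit false

namespace Cfsg.Agent.H384.TwoTrans

open MulAction

universe u v

/-- 2-transitive groups of degree a power of the characteristic -/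
def PPowAS (fam : ∀ (_ : ℕ) (T : Type u) [Group T], Prop) : Prop :=
  ∀ {G : Type u} {Ω : Type v} [Group G] [MulAction G Ω] {T : Subgroup G} {p a : ℕ}, p.Prime → AS G Ω T →
    fam p ↥T → Nat.card Ω = p ^ a → Known2 ↥T (Nat.card Ω)

/-- subgroups of index a power of the characteristic in one family -/
def PPowOn (fam : ∀ (_ : ℕ) (T : Type u) [Group T], Prop) : Prop :=
  ∀ (T : Type u) [Group T] [Finite T] (p k : ℕ), IsSimpleGroup T → ¬ IsMulCommutative T → p.Prime →
    fam p T → ∀ H : Subgroup T, 1 ≤ k → H.index = p ^ k → IdxConcl T p k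

theorem PPow.on (P : PPow.{u}) {fam : ∀ (_ : ℕ) (T : Type u) [Group T], Prop}
    (hf : ∀ (p : ℕ) (T : Type u) [Group T], fam p T → Cfsg.IsLieTypeChar p T) : PPowOn.{u} fam := by
  intro T _ _ p k h1 h2 h3 h4 H h5 h6
  exact P T p k h1 h2 h3 (hf p T h4) H h5 h6

theorem PPowOn.as {fam : ∀ (_ : ℕ) (T : Type u) [Group T], Prop} (P : PPowOn.{u} fam) : PPowAS.{u, v} fam := by
  intro G Ω _ _ T p a hp A h hn
  have := A.finT
  have h5 := A.five_le
  have hne : Nonempty Ω := by
    have := A.finΩ
    rw [← Finite.card_pos_iff]; omega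
  obtain ⟨ω⟩ := hne
  have ha : 1 ≤ a := by
    by_contra hcon
    have : a = 0 := by omega
    rw [this, pow_zero] at hn
    omega
  exact A.known_of_index hn (P ↥T p a A.simple A.nonab hp h (stabilizer ↥T ω) ha
    (by rw [A.index_stabilizer, hn]))

/-- prime power degree when the prime is only known to divide the degree -/
theorem PPowAS.of_dvd {fam : ∀ (_ : ℕ) (T : Type u) [Group T], Prop} (P : PPowAS.{u, v} fam)
    {G : Type u} {Ω : Type v} [Group G] [MulAction G Ω] {T : Subgroup G} (A : AS G Ω T) {p r a : ℕ} (hp : p.Prime)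
    (h : fam p ↥T) (hd : p ∣ Nat.card Ω) (hr : r.Prime) (hn : Nat.card Ω = r ^ a) : Known2 ↥T (Nat.card Ω) := by
  have h1 : p = r := by
    rw [hn] at hd
    exact (Nat.prime_dvd_prime_iff_eq hp hr).1 (hp.dvd_of_dvd_pow hd)
  subst h1
  exact P hp A h hn

end Cfsg.Agent.H384.TwoTrans
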