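import Cfsg.Agent.H384.TwoCyc
import Cfsg.Agent.H384.TwoTransRed

/-!
# An element fixing one point and permuting the others in one cycle: regularity
-/

set_option autoImplicit false

namespace Cfsg.Agent.H384.TwoCyc

open MulAction Pointwise Subgroup

variable {G Ω : Type*} [Group G] [MulAction G Ω] {g : G} {ω : Ω}

theorem Cyc.fix_pt (hc : Cyc g ({ω}ᶜ : Set Ω)) {c : G} (h : c ∈ zpowers g) : c • ω = ω :=
  hc.fixz (by simp) ⟨c, h⟩

theorem Cyc.exists_eq (hc : Cyc g ({ω}ᶜ : Set Ω)) {β γ : Ω} (hβ : β ≠ ω) (hγ : γ ≠ ω) :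
    ∃ c ∈ zpowers g, c • β = γ := by
  have h1 := hc.orb β hβ
  have h2 : γ ∈ ({ω}ᶜ : Set Ω) := hγ
  rw [← h1] at h2
  obtain ⟨⟨c, hc'⟩, h3⟩ := h2
  exact ⟨c, hc', h3⟩

/-- the group `⟨g⟩` acts freely on the points `≠ ω` -/
theorem Cyc.free [FaithfulSMul G Ω] (hc : Cyc g ({ω}ᶜ : Set Ω)) {c : G} (h : c ∈ zpowers g) {β : Ω}
    (hβ : β ≠ ω) (hf : c • β = β) : c = 1 := by
  apply FaithfulSMul.eq_of_smul_eq_smul (α := Ω)
  intro γ
  rw [one_smul]
  by_cases hγ : γ = ω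
  · rw [hγ]; exact hc.fix_pt h
  · obtain ⟨d, hd, rfl⟩ := hc.exists_eq hβ hγ
    obtain ⟨i, rfl⟩ := mem_zpowers_iff.1 h
    obtain ⟨j, rfl⟩ := mem_zpowers_iff.1 hd
    rw [smul_smul, ← zpow_add, add_comm, zpow_add, mul_smul, hf]

theorem Cyc.orderOf_eq [FaithfulSMul G Ω] [Finite Ω] (hc : Cyc g ({ω}ᶜ : Set Ω)) {β : Ω} (hβ : β ≠ ω) :
    orderOf g = Nat.card Ω - 1 := by
  have h1 := hc.orb β hβ
  have h2 : Function.Injective (fun c : zpowers g => c • β) := by
    intro c d hcd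
    have h3 : (d⁻¹ * c) • β = β := by
      rw [mul_smul, inv_smul_eq_iff]; exact hcd
    have h4 : ((d⁻¹ * c : zpowers g) : G) = 1 := hc.free (d⁻¹ * c).2 hβ h3
    have h5 : d⁻¹ * c = 1 := Subtype.ext h4
    exact (inv_mul_eq_one.1 h5).symm
  have h3 : Nat.card (zpowers g) = (Set.range fun c : zpowers g => c • β).ncard := by
    rw [← Nat.card_coe_set_eq]
    exact Nat.card_congr (Equiv.ofInjective _ h2)
  have h4 : (Set.range fun c : zpowers g => c • β) = ({ω}ᶜ : Set Ω) := h1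
  rw [h4, Nat.card_zpowers] at h3
  rw [h3]
  have h5 := Set.ncard_add_ncard_compl ({ω} : Set Ω)
  rw [Set.ncard_singleton] at h5
  omega

/-- a block of `⟨g⟩` in the points `≠ ω` is stabilised by every element of prime order dividing its size -/
theorem Cyc.smul_block [FaithfulSMul G Ω] [Finite G] [Finite Ω] (hc : Cyc g ({ω}ᶜ : Set Ω)) {D : Set Ω}
    (hD : IsBlock (zpowers g) D) (hωD : ω ∉ D) (hne : D.Nonempty) {p : ℕ} (hp : p.Prime) (hpD : p ∣ D.ncard)
    {x : G} (hx : x ∈ zpowers g) (hxp : orderOf x = p) : x • D = D := by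
  obtain ⟨β, hβ⟩ := hne
  have hβω : β ≠ ω := fun h => hωD (h ▸ hβ)
  let β0 : orbit (zpowers g) β := ⟨β, mem_orbit_self β⟩
  have h1 : IsBlock (zpowers g) (Subtype.val ⁻¹' D : Set (orbit (zpowers g) β)) := hD.preimage (incl _ β)
  have hβ0 : β0 ∈ (Subtype.val ⁻¹' D : Set (orbit (zpowers g) β)) := hβ
  have h2 := h1.ncard_block_eq_relIndex hβ0
  have hsub : D ⊆ ({ω}ᶜ : Set Ω) := fun y hy hyω => hωD (by rw [← Set.mem_singleton_iff.1 hyω]; exact hy)
  have horb : orbit (zpowers g) β = ({ω}ᶜ : Set Ω) := hc.orb β hβω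
  rw [Set.ncard_preimage_of_injective_subset_range Subtype.val_injective
    (by rw [Subtype.range_val, horb]; exact hsub)] at h2
  have hst : stabilizer (zpowers g) β0 = ⊥ := by
    rw [eq_bot_iff]
    intro c hcβ
    have h3 : c • β0 = β0 := hcβ
    have h4 : (c : G) • β = β := congrArg Subtype.val h3
    rw [Subgroup.mem_bot]
    exact Subtype.ext (hc.free c.2 hβω h4)
  rw [hst, Subgroup.relIndex_bot_left] at h2
  rw [h2] at hpD
  have : Fact p.Prime := ⟨hp⟩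
  obtain ⟨⟨y, hy⟩, hyo⟩ := exists_prime_orderOf_dvd_card' p hpD
  rw [Subgroup.orderOf_mk] at hyo
  have hx' : x ∈ (zpowers y).map (zpowers g).subtype := by
    have h5 : zpowers (⟨x, hx⟩ : zpowers g) = zpowers y := by
      apply eq_of_card
      rw [Nat.card_zpowers, Nat.card_zpowers, Subgroup.orderOf_mk, hxp, hyo]
    rw [← h5]
    exact ⟨⟨x, hx⟩, mem_zpowers _, rfl⟩
  obtain ⟨z, hz, rfl⟩ := hx'
  have h6 : z ∈ stabilizer (zpowers g) (Subtype.val ⁻¹' D : Set (orbit (zpowers g) β)) := by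
    have : zpowers y ≤ stabilizer (zpowers g) (Subtype.val ⁻¹' D : Set (orbit (zpowers g) β)) := by
      rw [zpowers_le]; exact hy
    exact this hz
  have h7 : z • D = D := by
    apply hD.smul_eq_of_mem hβ
    have h8 : z • β0 ∈ (Subtype.val ⁻¹' D : Set (orbit (zpowers g) β)) := by
      rw [mem_stabilizer_iff] at h6
      rw [← h6]
      exact Set.smul_mem_smul_set hβ0
    exact h8
  exact h7

end Cfsg.Agent.H384.TwoCyc
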