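import Cfsg.Agent.H384.ProjLines
import Cfsg.Agent.H384.TwoCycReg
import Cfsg.Agent.H410.ASLie

/-!
# 2-transitive groups with socle `PSL_d(q)`, `d ≥ 3`, on the points of the projective space: the lines are preserved;
no element fixes a point and permutes the other points in one cycle
-/

set_option autoImplicit false

namespace Cfsg.Agent.H384.TwoCycPSL

open MulAction Pointwise Subgroup TwoTrans TwoCyc
open scoped LinearAlgebra.Projectivization

variable {G Ω : Type*} [Group G] [MulAction G Ω] {T : Subgroup G}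
variable {F : Type*} [Field F] {ι : Type*} [Fintype ι] [DecidableEq ι]

/-- the line through two points -/
def Ln (Φ : Ω ≃ ℙ F (ι → F)) (α β : Ω) : Set Ω :=
  {γ | (Φ γ).submodule ≤ (Φ α).submodule ⊔ (Φ β).submodule}

variable {Φ : Ω ≃ ℙ F (ι → F)} {e : T ≃* Matrix.ProjectiveSpecialLinearGroup ι F}

omit [Fintype ι] [DecidableEq ι] in
theorem left_mem (α β : Ω) : α ∈ Ln Φ α β := by
  change (Φ α).submodule ≤ _
  exact le_sup_left

omit [Fintype ι] [DecidableEq ι] in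
theorem right_mem (α β : Ω) : β ∈ Ln Φ α β := by
  change (Φ β).submodule ≤ _
  exact le_sup_right

theorem mem_smul_iff (hΦ : ∀ (t : T) (ω : Ω), Φ (t • ω) = e t • Φ ω) (t : T) (α β γ : Ω) :
    t • γ ∈ Ln Φ (t • α) (t • β) ↔ γ ∈ Ln Φ α β := by
  obtain ⟨s, hs⟩ := QuotientGroup.mk_surjective (e t)
  have h1 : ∀ ω, Φ (t • ω) = s • Φ ω := by
    intro ω
    rw [hΦ, ← hs]
    exact Matrix.ProjectiveSpecialLinearGroup.smul_proj_mk s (Φ ω)
  change (Φ (t • γ)).submodule ≤ (Φ (t • α)).submodule ⊔ (Φ (t • β)).submodule ↔ _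
  rw [h1, h1, h1, ProjLines.smul_le_iff]
  exact Iff.rfl

theorem exists_t (hΦ : ∀ (t : T) (ω : Ω), Φ (t • ω) = e t • Φ ω) {α β γ γ' : Ω} (h : γ ∉ Ln Φ α β)
    (h' : γ' ∉ Ln Φ α β) : ∃ t : T, t • α = α ∧ t • β = β ∧ t • γ = γ' := by
  obtain ⟨s, h1, h2, h3⟩ := ProjLines.exists_sl h h'
  have h4 : ∀ ω, Φ (e.symm (s : Matrix.ProjectiveSpecialLinearGroup ι F) • ω) = s • Φ ω := by
    intro ω
    rw [hΦ, MulEquiv.apply_symm_apply]
    exact Matrix.ProjectiveSpecialLinearGroup.smul_proj_mk s (Φ ω)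
  refine ⟨e.symm (s : Matrix.ProjectiveSpecialLinearGroup ι F), ?_, ?_, ?_⟩
  · apply Φ.injective; rw [h4, h1]
  · apply Φ.injective; rw [h4, h2]
  · apply Φ.injective; rw [h4, h3]

omit [DecidableEq ι] in
theorem ncard_eq [Finite F] {α β : Ω} (h : α ≠ β) : (Ln Φ α β).ncard = Nat.card F + 1 := by
  have h1 := ProjLines.ncard_line (fun hc => h (Φ.injective hc) : Φ α ≠ Φ β)
  have h2 : Ln Φ α β = Φ ⁻¹' {c : ℙ F (ι → F) | c.submodule ≤ (Φ α).submodule ⊔ (Φ β).submodule} := rfl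
  rw [h2, Set.ncard_preimage_of_injective_subset_range Φ.injective (by rw [Φ.range_eq_univ]; exact Set.subset_univ _)]
  exact h1

/-- **`G` preserves the lines.** -/
theorem smul_line [Finite F] [Finite Ω] (hT : T.Normal) (hΦ : ∀ (t : T) (ω : Ω), Φ (t • ω) = e t • Φ ω)
    (hbig : 2 * (Nat.card F + 1) < Nat.card Ω) (g : G) {α β : Ω} (h : α ≠ β) :
    g • Ln Φ α β = Ln Φ (g • α) (g • β) := by
  have key : ∀ (g : G) (α β : Ω), α ≠ β → ∀ γ ∉ Ln Φ α β, g • γ ∉ Ln Φ (g • α) (g • β) := by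
    intro g α β h γ hγ hgγ
    have hgab : g • α ≠ g • β := fun hc => h (smul_left_cancel g hc)
    have h1 : g • (Ln Φ α β)ᶜ ⊆ Ln Φ (g • α) (g • β) := by
      rintro _ ⟨γ', hγ', rfl⟩
      obtain ⟨t, t1, t2, t3⟩ := exists_t hΦ hγ hγ'
      have ht' : g * (t : G) * g⁻¹ ∈ T := hT.conj_mem t t.2 g
      have f1 : (⟨g * (t : G) * g⁻¹, ht'⟩ : T) • (g • α) = g • α := by
        change (g * (t : G) * g⁻¹) • (g • α) = g • α
        rw [mul_smul, mul_smul, inv_smul_smul]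
        exact congrArg (g • ·) t1
      have f2 : (⟨g * (t : G) * g⁻¹, ht'⟩ : T) • (g • β) = g • β := by
        change (g * (t : G) * g⁻¹) • (g • β) = g • β
        rw [mul_smul, mul_smul, inv_smul_smul]
        exact congrArg (g • ·) t2
      have f3 : (⟨g * (t : G) * g⁻¹, ht'⟩ : T) • (g • γ) = g • γ' := by
        change (g * (t : G) * g⁻¹) • (g • γ) = g • γ'
        rw [mul_smul, mul_smul, inv_smul_smul]
        exact congrArg (g • ·) t3
      have h2 := (mem_smul_iff hΦ (⟨g * (t : G) * g⁻¹, ht'⟩ : T) (g • α) (g • β) (g • γ)).2 hgγ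
      rw [f1, f2, f3] at h2
      exact h2
    have h3 := Set.ncard_le_ncard h1
    rw [Set.ncard_smul_set] at h3
    have h4 := Set.ncard_add_ncard_compl (Ln Φ α β)
    have h5 := ncard_eq (Φ := Φ) h
    have h6 := ncard_eq (Φ := Φ) hgab
    omega
  have hgab : g • α ≠ g • β := fun hc => h (smul_left_cancel g hc)
  ext γ
  rw [Set.mem_smul_set_iff_inv_smul_mem]
  constructor
  · intro h1
    by_contra h2
    have h3 := key g⁻¹ _ _ hgab γ h2
    rw [inv_smul_smul, inv_smul_smul] at h3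
    exact h3 h1
  · intro h1
    by_contra h2
    have h3 := key g α β h _ h2
    rw [smul_inv_smul] at h3
    exact h3 h1

/-- **No element of `G` fixes one point and permutes the other points in one cycle.** -/
theorem no_cycle [Finite G] [Finite Ω] [FaithfulSMul G Ω] [Finite F] (hT : T.Normal)
    (hΦ : ∀ (t : T) (ω : Ω), Φ (t • ω) = e t • Φ ω)
    (hbig : 2 * (Nat.card F + 1) < Nat.card Ω) {p : ℕ} (hp : p.Prime) (hpF : p ∣ Nat.card F)
    {g : G} {ω : Ω} (hc : Cyc g ({ω}ᶜ : Set Ω)) : False := by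
  have := Fact.mk hp
  -- the lines through `ω`
  have hDc : ∀ β : Ω, β ≠ ω → (Ln Φ ω β \ {ω}).ncard = Nat.card F := by
    intro β hβ
    have h1 := Set.ncard_sdiff_singleton_add_one (left_mem (Φ := Φ) ω β)
    rw [ncard_eq hβ.symm] at h1
    omega
  have hDb : ∀ β : Ω, β ≠ ω → IsBlock (zpowers g) (Ln Φ ω β \ {ω}) := by
    intro β hβ
    rw [isBlock_iff_smul_eq_of_mem]
    rintro c γ ⟨hγ, hγω⟩ ⟨hcγ, hcγω⟩
    have hcω : (c : G) • ω = ω := hc.fix_pt c.2
    have h1 : (c : G) • Ln Φ ω β = Ln Φ ω ((c : G) • β) := by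
      rw [smul_line hT hΦ hbig (c : G) hβ.symm, hcω]
    have hcβ : (c : G) • β ≠ ω := by
      intro h
      apply hβ
      have h2 : (c : G) • β = (c : G) • ω := by rw [h, hcω]
      exact smul_left_cancel _ h2
    have h2 : Ln Φ ω ((c : G) • β) = Ln Φ ω β := by
      have h3 : (c : G) • γ ∈ Ln Φ ω ((c : G) • β) := by
        rw [← h1]; exact Set.smul_mem_smul_set hγ
      have h4 : (c : G) • γ ∈ Ln Φ ω β := hcγ
      have h5 : (c : G) • γ ≠ ω := hcγω
      have e1 := ProjLines.line_eq (fun h => hcβ (Φ.injective h).symm : Φ ω ≠ Φ ((c : G) • β))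
        (fun h => h5 (Φ.injective h).symm : Φ ω ≠ Φ ((c : G) • γ)) le_sup_left h3
      have e2 := ProjLines.line_eq (fun h => hβ (Φ.injective h).symm : Φ ω ≠ Φ β)
        (fun h => h5 (Φ.injective h).symm : Φ ω ≠ Φ ((c : G) • γ)) le_sup_left h4
      unfold Ln
      rw [← e1, ← e2]
    change (c : G) • (Ln Φ ω β \ {ω}) = _
    rw [Set.smul_set_sdiff, h1, h2, Set.smul_set_singleton, hcω]
  -- the element of order `p`
  have hne : ∃ β : Ω, β ≠ ω := by
    by_contra hcon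
    push Not at hcon
    have : Subsingleton Ω := ⟨fun a b => by rw [hcon a, hcon b]⟩
    have := Finite.card_le_one_iff_subsingleton.2 this
    omega
  obtain ⟨β, hβ⟩ := hne
  have hord : p ∣ Nat.card (zpowers g) := by
    have h1 := (hDb β hβ)
    have h2 : (Ln Φ ω β \ {ω}).Nonempty := ⟨β, right_mem ω β, hβ⟩
    have h3 := hc.card_dvd h1 (x := β) ⟨right_mem ω β, hβ⟩ (fun y hy => hy.2)
    rw [hDc β hβ] at h3
    have h4 := Set.ncard_add_ncard_compl ({ω} : Set Ω)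
    rw [Set.ncard_singleton] at h4
    rw [Nat.card_zpowers, hc.orderOf_eq hβ]
    refine (hpF.trans h3).trans (dvd_of_eq ?_)
    omega
  obtain ⟨⟨x, hx⟩, hxo⟩ := exists_prime_orderOf_dvd_card' p hord
  rw [Subgroup.orderOf_mk] at hxo
  have hx1 : x ≠ 1 := by
    rintro rfl
    rw [orderOf_one] at hxo
    exact hp.one_lt.ne hxo
  have hxω : x • ω = ω := hc.fix_pt hx
  have hfix : ∀ β : Ω, β ≠ ω → x • β ∈ Ln Φ ω β := by
    intro β hβ
    have h1 := hc.smul_block (hDb β hβ) (fun h => h.2 rfl) ⟨β, right_mem ω β, hβ⟩ hp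
      (by rw [hDc β hβ]; exact hpF) hx hxo
    have h2 : x • β ∈ x • (Ln Φ ω β \ {ω}) := Set.smul_mem_smul_set ⟨right_mem ω β, hβ⟩
    rw [h1] at h2
    exact h2.1
  -- a line not through `ω`
  have hγ : ∃ γ : Ω, γ ∉ Ln Φ ω β := by
    by_contra hcon
    push Not at hcon
    have h1 : Ln Φ ω β = Set.univ := Set.eq_univ_of_forall hcon
    have h2 := ncard_eq (Φ := Φ) hβ.symm
    rw [h1, Set.ncard_univ] at h2
    omega
  obtain ⟨γ, hγ⟩ := hγ
  have hγω : γ ≠ ω := by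
    rintro rfl
    exact hγ (left_mem _ _)
  have hγβ : γ ≠ β := by
    rintro rfl
    exact hγ (right_mem _ _)
  have hxβγ : x • β ≠ x • γ := fun h => hγβ (smul_left_cancel x h).symm
  obtain ⟨d, hd1, hd2⟩ := ProjLines.meet (w := Φ ω) (a := Φ β) (b := Φ γ) (a' := Φ (x • β)) (b' := Φ (x • γ))
    (fun h => hγβ (Φ.injective h).symm) (fun h => hxβγ (Φ.injective h)) (hfix β hβ) (hfix γ hγω)
  obtain ⟨δ, rfl⟩ := Φ.surjective d
  have hδ1 : δ ∈ Ln Φ β γ := hd1
  have hδ2 : δ ∈ Ln Φ (x • β) (x • γ) := hd2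
  have hωL : ω ∉ Ln Φ β γ := by
    intro h
    apply hγ
    have h1 := ProjLines.exchange (fun hc => hβ (Φ.injective hc).symm : Φ ω ≠ Φ β) h
    change (Φ γ).submodule ≤ _
    rw [sup_comm]
    exact h1
  have hδω : δ ≠ ω := fun h => hωL (h ▸ hδ1)
  rw [← smul_line hT hΦ hbig x hγβ.symm, Set.mem_smul_set_iff_inv_smul_mem] at hδ2
  have hx' : x⁻¹ ∈ zpowers g := inv_mem hx
  have hxo' : orderOf x⁻¹ = p := by rw [orderOf_inv, hxo]
  have hfix' : x⁻¹ • δ ∈ Ln Φ ω δ := by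
    have h1 := hc.smul_block (hDb δ hδω) (fun h => h.2 rfl) ⟨δ, right_mem ω δ, hδω⟩ hp
      (by rw [hDc δ hδω]; exact hpF) hx' hxo'
    have h2 : x⁻¹ • δ ∈ x⁻¹ • (Ln Φ ω δ \ {ω}) := Set.smul_mem_smul_set ⟨right_mem ω δ, hδω⟩
    rw [h1] at h2
    exact h2.1
  have hne2 : x⁻¹ • δ ≠ δ := by
    intro h
    apply hx1
    have := hc.free hx' hδω h
    rw [inv_eq_one] at this
    exact this
  have e1 := ProjLines.line_eq (fun h => hγβ (Φ.injective h).symm : Φ β ≠ Φ γ)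
    (fun h => hne2 (Φ.injective h) : Φ (x⁻¹ • δ) ≠ Φ δ) hδ2 hδ1
  have e2 := ProjLines.line_eq (fun h => hδω (Φ.injective h).symm : Φ ω ≠ Φ δ)
    (fun h => hne2 (Φ.injective h) : Φ (x⁻¹ • δ) ≠ Φ δ) hfix' le_sup_right
  apply hωL
  change (Φ ω).submodule ≤ _
  rw [← e1, e2]
  exact le_sup_left

/-- **The row `PSL_d(q)`, `d ≥ 3`.** -/
theorem psl_row (A : AS G Ω T) (F : Type*) [Field F] [Fintype F] {d : ℕ} (hd : 3 ≤ d)
    (e : T ≃* Matrix.ProjectiveSpecialLinearGroup (Fin d) F)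
    (hn : Nat.card Ω * (Fintype.card F - 1) = Fintype.card F ^ d - 1) {g : G} {ω : Ω}
    (hc : Cyc g ({ω}ᶜ : Set Ω)) : False := by
  have := A.finG
  have := A.finΩ
  have := A.faithful
  obtain ⟨m, rfl⟩ : ∃ m, d = m + 1 + 1 := ⟨d - 2, by omega⟩
  obtain ⟨p, hchar⟩ := CharP.exists F
  obtain ⟨⟨f, hf0⟩, hp, hf⟩ := FiniteField.card F p
  have := Fact.mk hp
  simp only [PNat.mk_coe] at hf
  have hq2 : 2 ≤ Fintype.card F := Fintype.one_lt_card
  have hpF : p ∣ Fintype.card F := by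
    rw [hf]; exact dvd_pow_self p (by omega)
  have hpn : ¬ p ∣ Nat.card Ω := by
    intro h
    have h1 : p ∣ Fintype.card F ^ (m + 1 + 1) - 1 := by
      rw [← hn]; exact h.mul_right _
    have h2 : p ∣ Fintype.card F ^ (m + 1 + 1) := hpF.trans (dvd_pow_self _ (by omega))
    have h3 : 1 ≤ Fintype.card F ^ (m + 1 + 1) := Nat.one_le_pow _ _ (by omega)
    have h4 := (Nat.dvd_sub_iff_right h3 h2).1 h1
    exact hp.one_lt.ne' (Nat.dvd_one.1 h4)
  obtain ⟨e', Φ, hΦ⟩ := H410.ASLie.psl_equiv A e hpn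
  refine no_cycle (Φ := Φ) (e := e') A.normal hΦ ?_ hp (by rw [Nat.card_eq_fintype_card]; exact hpF) hc
  rw [Nat.card_eq_fintype_card]
  generalize Fintype.card F = q at *
  have h1 : q ^ 3 ≤ q ^ (m + 1 + 1) := Nat.pow_le_pow_right (by omega) hd
  obtain ⟨a, rfl⟩ : ∃ a, q = a + 1 := ⟨q - 1, by omega⟩
  rw [Nat.add_sub_cancel] at hn
  by_contra hcon
  push Not at hcon
  have h2 : Nat.card Ω * a ≤ (2 * (a + 1 + 1)) * a := Nat.mul_le_mul_right _ hcon
  rw [hn] at h2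
  have h3 : (a + 1) ^ 3 ≤ 2 * (a + 1 + 1) * a + 1 := by omega
  nlinarith [sq_nonneg a]

end Cfsg.Agent.H384.TwoCycPSL
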