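import Cfsg.Agent.S0547
import Cfsg.Agent.H384.TwoTransRed

/-!
# Solvable transitive groups of prime degree
-/

set_option autoImplicit false

namespace Cfsg.Agent.H384.PrimeDeg

open MulAction

/-- a solvable transitive group of prime degree `p` has order dividing `p (p - 1)` -/
theorem card_dvd {K α : Type*} [Group K] [Finite K] [Finite α] [MulAction K α] [FaithfulSMul K α]
    [IsPretransitive K α] (hs : Group.IsSolvable K) {p : ℕ} (hp : p.Prime) (hα : Nat.card α = p) :
    Nat.card K ∣ p * (p - 1) := by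
  have hprim : IsPreprimitive K α := IsPreprimitive.of_prime_card (by rw [hα]; exact hp)
  have hne : Nonempty α := by
    rw [← Finite.card_pos_iff, hα]; exact hp.pos
  have hntα : Nontrivial α := Finite.one_lt_card_iff_nontrivial.1 (by rw [hα]; exact hp.one_lt)
  have hnt : Nontrivial K := by
    by_contra hcon
    rw [not_nontrivial_iff_subsingleton] at hcon
    obtain ⟨a, b, hab⟩ := exists_pair_ne α
    obtain ⟨g, hg⟩ := exists_smul_eq K a b
    rw [Subsingleton.elim g 1, one_smul] at hg
    exact hab hg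
  obtain ⟨M, hM, hM1, hmin⟩ := TwoTrans.exists_min_normal K
  obtain ⟨htr, hst, q, d, hq, hd, hαq, hMq⟩ := S0547.result hprim M hM1 hmin
  have hMp : Nat.card M = p := by rw [hMq, ← hαq, hα]
  have : Fact p.Prime := ⟨hp⟩
  have hcyc : IsCyclic M := isCyclic_of_prime_card hMp
  have hker : (MulAut.conjNormal : K →* MulAut M).ker ≤ M := by
    intro c hc
    rw [MonoidHom.mem_ker] at hc
    have hcomm : ∀ m ∈ M, c * m = m * c := by
      intro m hm
      have h1 := congrArg Subtype.val (DFunLike.congr_fun hc (⟨m, hm⟩ : M))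
      rw [MulAut.conjNormal_apply] at h1
      have h2 : c * m * c⁻¹ = m := h1
      rwa [mul_inv_eq_iff_eq_mul] at h2
    obtain ⟨a⟩ := hne
    obtain ⟨⟨m, hm⟩, hma⟩ := exists_smul_eq M a (c • a)
    have hma' : m • a = c • a := hma
    have h1 : m⁻¹ * c = 1 := by
      apply FaithfulSMul.eq_of_smul_eq_smul (α := α)
      intro b
      obtain ⟨⟨k, hk⟩, hkb⟩ := exists_smul_eq M a b
      have hkb' : k • a = b := hkb
      rw [one_smul, ← hkb']
      have hmk : m⁻¹ * k = k * m⁻¹ := by
        have h2 : ((⟨m, hm⟩ : M)⁻¹ * ⟨k, hk⟩) = ⟨k, hk⟩ * (⟨m, hm⟩ : M)⁻¹ := by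
          have := hcyc.isMulCommutative
          exact mul_comm' _ _
        exact congrArg Subtype.val h2
      have h3 : m⁻¹ * c * k = k * (m⁻¹ * c) := by
        rw [mul_assoc, hcomm k hk, ← mul_assoc, hmk, mul_assoc]
      rw [smul_smul, h3, mul_smul, mul_smul m⁻¹, ← hma', inv_smul_smul]
    rw [inv_mul_eq_one] at h1
    rw [← h1]
    exact hm
  have h1 : Nat.card (MulAut.conjNormal : K →* MulAut M).ker ∣ p := by
    rw [← hMp]; exact Subgroup.card_dvd_of_le hker
  have h2 : Nat.card (MulAut.conjNormal : K →* MulAut M).range ∣ p - 1 := by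
    have h3 := Subgroup.card_subgroup_dvd_card (MulAut.conjNormal : K →* MulAut M).range
    rw [IsCyclic.card_mulAut, hMp, Nat.totient_prime hp] at h3
    exact h3
  have h3 := Subgroup.card_mul_index (MulAut.conjNormal : K →* MulAut M).ker
  rw [Subgroup.index_ker] at h3
  rw [← h3]
  exact Nat.mul_dvd_mul h1 h2

end Cfsg.Agent.H384.PrimeDeg
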