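import Mathlib

/-!
# Lines of the projective space: transitivity of `SL` on triangles, intersections
-/

set_option autoImplicit false

namespace Cfsg.Agent.H384.ProjLines

open Module
open scoped LinearAlgebra.Projectivization

section Geo

variable {F V : Type*} [Field F] [AddCommGroup V] [Module F V]

theorem le_of_eq_sub {a b : ℙ F V} (h : a.submodule ≤ b.submodule) : a = b := by
  apply Projectivization.submodule_injective
  have : FiniteDimensional F b.submodule := Module.finite_of_finrank_pos (by
    rw [Projectivization.finrank_submodule]; exact one_pos)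
  apply Submodule.eq_of_le_of_finrank_eq h
  rw [Projectivization.finrank_submodule, Projectivization.finrank_submodule]

variable [FiniteDimensional F V]

theorem inf_eq_bot {a : ℙ F V} {W : Submodule F V} (h : ¬ a.submodule ≤ W) : a.submodule ⊓ W = ⊥ := by
  by_contra hne
  have h1 : 0 < finrank F (a.submodule ⊓ W : Submodule F V) := by
    rw [Nat.pos_iff_ne_zero, Ne, Submodule.finrank_eq_zero]
    exact hne
  have h2 : a.submodule ⊓ W = a.submodule := by
    apply Submodule.eq_of_le_of_finrank_le inf_le_left
    rw [Projectivization.finrank_submodule]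
    exact h1
  exact h (by rw [← h2]; exact inf_le_right)

theorem finrank_sup {a : ℙ F V} {W : Submodule F V} (h : ¬ a.submodule ≤ W) :
    finrank F (a.submodule ⊔ W : Submodule F V) = finrank F W + 1 := by
  have h1 := Submodule.finrank_sup_add_finrank_inf_eq a.submodule W
  rw [inf_eq_bot h, finrank_bot, Projectivization.finrank_submodule] at h1
  omega

theorem finrank_line {a b : ℙ F V} (h : a ≠ b) : finrank F (a.submodule ⊔ b.submodule : Submodule F V) = 2 := by
  rw [finrank_sup (fun hc => h (le_of_eq_sub hc)), Projectivization.finrank_submodule]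

/-- two distinct points on a line span it -/
theorem line_eq {a b c d : ℙ F V} (hab : a ≠ b) (hcd : c ≠ d) (hc : c.submodule ≤ a.submodule ⊔ b.submodule)
    (hd : d.submodule ≤ a.submodule ⊔ b.submodule) :
    c.submodule ⊔ d.submodule = a.submodule ⊔ b.submodule := by
  apply Submodule.eq_of_le_of_finrank_eq (sup_le hc hd)
  rw [finrank_line hab, finrank_line hcd]

/-- exchange -/
theorem exchange {a b c : ℙ F V} (hac : a ≠ c) (h : a.submodule ≤ c.submodule ⊔ b.submodule) :
    b.submodule ≤ c.submodule ⊔ a.submodule := by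
  by_cases hcb : c = b
  · rw [hcb]; exact le_sup_left
  · rw [line_eq hcb hac.symm le_sup_left h]
    exact le_sup_right

/-- two lines `ab`, `a'b'` with `a' ∈ wa`, `b' ∈ wb` meet -/
theorem meet {w a b a' b' : ℙ F V} (hab : a ≠ b) (hab' : a' ≠ b')
    (ha : a'.submodule ≤ w.submodule ⊔ a.submodule) (hb : b'.submodule ≤ w.submodule ⊔ b.submodule) :
    ∃ d : ℙ F V, d.submodule ≤ a.submodule ⊔ b.submodule ∧ d.submodule ≤ a'.submodule ⊔ b'.submodule := by
  have h1 := Submodule.finrank_sup_add_finrank_inf_eq (a.submodule ⊔ b.submodule) (a'.submodule ⊔ b'.submodule)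
  rw [finrank_line hab, finrank_line hab'] at h1
  have h2 : (a.submodule ⊔ b.submodule) ⊔ (a'.submodule ⊔ b'.submodule) ≤
      w.submodule ⊔ (a.submodule ⊔ b.submodule) := by
    refine sup_le le_sup_right (sup_le ?_ ?_)
    · exact ha.trans (sup_le_sup_left le_sup_left _)
    · exact hb.trans (sup_le_sup_left le_sup_right _)
  have h3 := Submodule.finrank_mono h2
  have h4 : finrank F (w.submodule ⊔ (a.submodule ⊔ b.submodule) : Submodule F V) ≤ 3 := by
    have := Submodule.finrank_sup_add_finrank_inf_eq w.submodule (a.submodule ⊔ b.submodule)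
    rw [finrank_line hab, Projectivization.finrank_submodule] at this
    omega
  have h5 : (a.submodule ⊔ b.submodule) ⊓ (a'.submodule ⊔ b'.submodule) ≠ ⊥ := by
    intro h
    rw [h, finrank_bot] at h1
    omega
  obtain ⟨v, hv, hv0⟩ := (Submodule.ne_bot_iff _).1 h5
  refine ⟨Projectivization.mk F v hv0, ?_, ?_⟩
  · rw [Projectivization.submodule_mk, Submodule.span_singleton_le_iff_mem]
    exact hv.1
  · rw [Projectivization.submodule_mk, Submodule.span_singleton_le_iff_mem]
    exact hv.2

theorem ncard_line [Finite F] {a b : ℙ F V} (h : a ≠ b) :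
    {c : ℙ F V | c.submodule ≤ a.submodule ⊔ b.submodule}.ncard = Nat.card F + 1 := by
  set W : Submodule F V := a.submodule ⊔ b.submodule with hW
  rw [← Projectivization.card_of_finrank_two F W (finrank_line h)]
  have hinj : Function.Injective (Projectivization.map W.subtype W.injective_subtype) :=
    Projectivization.map_injective W.subtype W.injective_subtype
  have hr : {c : ℙ F V | c.submodule ≤ W} = Set.range (Projectivization.map W.subtype W.injective_subtype) := by
    ext c
    constructor
    · intro h1
      rw [Set.mem_ofPred_eq, Projectivization.submodule_eq, Submodule.span_singleton_le_iff_mem] at h1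
      refine ⟨Projectivization.mk F (⟨c.rep, h1⟩ : W) (fun h0 => c.rep_nonzero (congrArg Subtype.val h0)), ?_⟩
      rw [Projectivization.map_mk]
      conv_rhs => rw [← c.mk_rep]
      rfl
    · rintro ⟨d, rfl⟩
      induction d with | h v hv =>
      rw [Projectivization.map_mk, Set.mem_ofPred_eq, Projectivization.submodule_mk,
        Submodule.span_singleton_le_iff_mem]
      exact v.2
  rw [hr, ← Nat.card_coe_set_eq]
  exact Nat.card_congr (Equiv.ofInjective _ hinj).symm

end Geo

section SL

variable {ι F : Type*} [Field F] [DecidableEq ι] [Fintype ι]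

theorem smul_eq (s : Matrix.SpecialLinearGroup ι F) (a : ℙ F (ι → F)) :
    s • a = Projectivization.mk F (s.1.mulVec a.rep) ((smul_ne_zero_iff_ne s).mpr a.rep_nonzero) := by
  conv_lhs => rw [← a.mk_rep]
  rfl

theorem submodule_smul (s : Matrix.SpecialLinearGroup ι F) (a : ℙ F (ι → F)) :
    (s • a).submodule = a.submodule.map s.1.mulVecLin := by
  rw [smul_eq, Projectivization.submodule_mk, Projectivization.submodule_eq, Submodule.map_span,
    Set.image_singleton]
  rfl

theorem mulVecLin_inj (s : Matrix.SpecialLinearGroup ι F) : Function.Injective s.1.mulVecLin := by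
  intro x y hxy
  have h1 : s • x = s • y := hxy
  exact (smul_left_cancel_iff s).1 h1

theorem smul_le_iff (s : Matrix.SpecialLinearGroup ι F) (a b c : ℙ F (ι → F)) :
    (s • c).submodule ≤ (s • a).submodule ⊔ (s • b).submodule ↔ c.submodule ≤ a.submodule ⊔ b.submodule := by
  rw [submodule_smul, submodule_smul, submodule_smul, ← Submodule.map_sup,
    Submodule.map_le_map_iff_of_injective (mulVecLin_inj s)]

/-- transitivity of the stabiliser of two points on the points off the line -/
theorem exists_sl {a b c c' : ℙ F (ι → F)} (h : ¬ c.submodule ≤ a.submodule ⊔ b.submodule)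
    (h' : ¬ c'.submodule ≤ a.submodule ⊔ b.submodule) :
    ∃ s : Matrix.SpecialLinearGroup ι F, s • a = a ∧ s • b = b ∧ s • c = c' := by
  set W : Submodule F (ι → F) := a.submodule ⊔ b.submodule with hW
  set x := c.rep with hx
  have hxW : x ∉ W := by
    rw [Projectivization.submodule_eq, Submodule.span_singleton_le_iff_mem] at h
    exact h
  have hyW : c'.rep ∉ W := by
    rw [Projectivization.submodule_eq, Submodule.span_singleton_le_iff_mem] at h'
    exact h'
  -- the functional
  have key : ∃ (y : ι → F) (t : F) (f : Module.Dual F (ι → F)), t ≠ 0 ∧ y = t • c'.rep ∧ W ≤ LinearMap.ker f ∧ f x = 1 ∧ f y = 1 := by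
    by_cases hcase : x ∈ W ⊔ Submodule.span F {c'.rep - x}
    · obtain ⟨w, hw, z, hz, hwz⟩ := Submodule.mem_sup.1 hcase
      obtain ⟨t, rfl⟩ := Submodule.mem_span_singleton.1 hz
      have ht : t ≠ 0 := by
        rintro rfl
        rw [zero_smul, add_zero] at hwz
        exact hxW (hwz ▸ hw)
      have h1 : (1 + t) • x = w + t • c'.rep := by
        rw [add_smul, one_smul, ← sub_eq_zero]
        nth_rw 1 [← hwz]
        rw [smul_sub]
        abel
      have ht1 : 1 + t ≠ 0 := by
        intro h0
        rw [h0, zero_smul] at h1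
        apply hyW
        have h2 : c'.rep = (-t⁻¹) • w := by
          have h3 : t • c'.rep = -w := by
            rw [eq_neg_iff_add_eq_zero, add_comm]; exact h1.symm
          rw [neg_smul, ← smul_neg, ← h3, smul_smul, inv_mul_cancel₀ ht, one_smul]
        rw [h2]
        exact W.smul_mem _ hw
      obtain ⟨f, hf, hfW⟩ := Submodule.exists_le_ker_of_notMem hxW
      refine ⟨(t * (1 + t)⁻¹) • c'.rep, t * (1 + t)⁻¹, (f x)⁻¹ • f, mul_ne_zero ht (inv_ne_zero ht1), rfl, ?_, ?_, ?_⟩
      · intro u hu
        rw [LinearMap.mem_ker, LinearMap.smul_apply, LinearMap.mem_ker.1 (hfW hu), smul_zero]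
      · rw [LinearMap.smul_apply, smul_eq_mul, inv_mul_cancel₀ hf]
      · have h2 := congrArg f h1
        rw [map_add, map_smul, map_smul, LinearMap.mem_ker.1 (hfW hw), zero_add, smul_eq_mul, smul_eq_mul] at h2
        rw [LinearMap.smul_apply, map_smul, smul_eq_mul, smul_eq_mul]
        have h3 : f c'.rep * t = (1 + t) * f x := by rw [h2, mul_comm]
        have h4 : (f x)⁻¹ * (t * (1 + t)⁻¹ * f c'.rep) = (f x)⁻¹ * ((1 + t)⁻¹ * (f c'.rep * t)) := by ring
        rw [h4, h3, inv_mul_cancel_left₀ ht1, inv_mul_cancel₀ hf]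
    · obtain ⟨f, hf, hfW⟩ := Submodule.exists_le_ker_of_notMem hcase
      refine ⟨c'.rep, 1, (f x)⁻¹ • f, one_ne_zero, (one_smul _ _).symm, ?_, ?_, ?_⟩
      · intro u hu
        rw [LinearMap.mem_ker, LinearMap.smul_apply,
          LinearMap.mem_ker.1 (hfW (Submodule.mem_sup_left hu)), smul_zero]
      · rw [LinearMap.smul_apply, smul_eq_mul, inv_mul_cancel₀ hf]
      · have h1 : c'.rep - x ∈ LinearMap.ker f :=
          hfW (Submodule.mem_sup_right (Submodule.mem_span_singleton_self _))
        rw [LinearMap.mem_ker, map_sub, sub_eq_zero] at h1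
        rw [LinearMap.smul_apply, h1, smul_eq_mul, inv_mul_cancel₀ hf]
  obtain ⟨y, t, f, ht, hy, hfW, hfx, hfy⟩ := key
  let τ : (ι → F) →ₗ[F] (ι → F) := LinearMap.transvection f (y - x)
  have hτ : ∀ v, τ v = v + f v • (y - x) := fun v => LinearMap.transvection.apply f (y - x) v
  let s : Matrix.SpecialLinearGroup ι F := ⟨LinearMap.toMatrix' τ, by
    rw [LinearMap.det_toMatrix', LinearMap.transvection.det, map_sub, hfx, hfy, sub_self, add_zero]⟩
  have hs : ∀ v, s.1.mulVec v = τ v := fun v => LinearMap.toMatrix'_mulVec τ v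
  have hfixW : ∀ d : ℙ F (ι → F), d.submodule ≤ W → s • d = d := by
    intro d hd
    have h1 : d.rep ∈ W := by
      rw [Projectivization.submodule_eq, Submodule.span_singleton_le_iff_mem] at hd
      exact hd
    rw [smul_eq]
    conv_rhs => rw [← d.mk_rep]
    rw [Projectivization.mk_eq_mk_iff']
    refine ⟨1, ?_⟩
    rw [one_smul, hs, hτ, LinearMap.mem_ker.1 (hfW h1), zero_smul, add_zero]
  refine ⟨s, hfixW a le_sup_left, hfixW b le_sup_right, ?_⟩
  rw [smul_eq]
  conv_rhs => rw [← c'.mk_rep]
  rw [Projectivization.mk_eq_mk_iff']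
  refine ⟨t, ?_⟩
  rw [hs, hτ, ← hx, hfx, one_smul, add_sub_cancel, hy]

end SL

end Cfsg.Agent.H384.ProjLines
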