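import Cfsg.Agent.H384.Dim24
import Cfsg.Agent.H384.PrimeDeg
import Cfsg.Agent.H384.AsOut
import Cfsg.Agent.H384.TwoCycReg
import Cfsg.Agent.S0679
import Cfsg.Agent.S1601
import Cfsg.Agent.S2061
import Cfsg.Agent.S2062
import Cfsg.Agent.S2071
import Cfsg.Agent.S2072
import Cfsg.Agent.MTwelveType.SylowModel

/-!
# Elements with the cycles of lengths `1`, `n - 1`: the rows `M12`, `M22`, `HS`, `Co3`
-/

set_option autoImplicit false

namespace Cfsg.Agent.H384.TwoCycSpor

open MulAction Pointwise TwoTrans TwoCyc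

variable {G Ω : Type*} [Group G] [MulAction G Ω] {T : Subgroup G} {g : G} {ω : Ω}

theorem orderOf_eq (A : AS G Ω T) (hc : Cyc g ({ω}ᶜ : Set Ω)) : orderOf g = Nat.card Ω - 1 := by
  have := A.finΩ
  have := A.faithful
  obtain ⟨β, hβ⟩ := A.two_ne ω
  exact hc.orderOf_eq hβ

theorem hs_row (A : AS G Ω T) (h : Spor.IsoHS T) (hn : Nat.card Ω = 176) (hc : Cyc g ({ω}ᶜ : Set Ω)) : False := by
  obtain ⟨e⟩ := h
  have h1 := orderOf_eq A hc
  rw [hn] at h1
  have h2 := A.index_dvd_out e
  rw [S2072.result] at h2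
  have h3 : g ∈ T := A.mem_of_coprime h2 (by rw [h1]; decide)
  refine Dim24.hs_no (x := e ⟨g, h3⟩) ?_
  rw [MulEquiv.orderOf_eq, Subgroup.orderOf_mk, h1]

theorem m22_row (A : AS G Ω T) (h : Spor.IsoM22 T) (hn : Nat.card Ω = 22) (hc : Cyc g ({ω}ᶜ : Set Ω)) : False := by
  obtain ⟨e⟩ := h
  have h1 := orderOf_eq A hc
  rw [hn] at h1
  have h2 := A.index_dvd_out e
  rw [S2062.result] at h2
  have h3 : g ∈ T := A.mem_of_coprime h2 (by rw [h1]; decide)
  refine Dim24.m22_no (x := e ⟨g, h3⟩) ?_
  rw [MulEquiv.orderOf_eq, Subgroup.orderOf_mk, h1]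

theorem co3_row (A : AS G Ω T) (h : Spor.IsoCo3 T) (hn : Nat.card Ω = 276) (hc : Cyc g ({ω}ᶜ : Set Ω)) : False := by
  obtain ⟨e⟩ := h
  have h1 := orderOf_eq A hc
  rw [hn] at h1
  have h2 := A.index_dvd_out e
  rw [S2071.result] at h2
  have h3 : g ∈ T := A.mem_of_coprime h2 (by rw [h1]; decide)
  refine Dim24.co3_no (x := e ⟨g, h3⟩) ?_
  rw [MulEquiv.orderOf_eq, Subgroup.orderOf_mk, h1]

/-- the order of a point stabiliser acting on 11 points, when `n = 12` -/
theorem stab_card (A : AS G Ω T) [Finite G] (ω : Ω) (hn : Nat.card Ω = 12) :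
    Nat.card (stabilizer G ω) = 7920 ∨ Nat.card (stabilizer G ω) = 660 ∨ Nat.card (stabilizer G ω) ∣ 110 ∨
      19958400 ≤ Nat.card (stabilizer G ω) := by
  classical
  have := A.finΩ
  have := A.faithful
  have := A.two
  let α := ↥(SubMulAction.ofStabilizer G ω)
  have : Fintype α := Fintype.ofFinite α
  have hα : Fintype.card α = 11 := by
    have h1 := SubMulAction.nat_card_ofStabilizer_add_one_eq G ω
    have h2 : Nat.card α = Fintype.card α := Nat.card_eq_fintype_card
    have h3 : Nat.card α + 1 = Nat.card Ω := h1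
    omega
  have htrG : IsPretransitive G Ω := isPretransitive_of_is_two_pretransitive
  have htr : IsPretransitive (stabilizer G ω) α := by
    have := (SubMulAction.ofStabilizer.isMultiplyPretransitive (G := G) (a := ω) (n := 1)).1 A.two
    exact is_one_pretransitive_iff.1 this
  have hfa : FaithfulSMul (stabilizer G ω) α := by
    constructor
    intro x y hxy
    apply Subtype.ext
    apply FaithfulSMul.eq_of_smul_eq_smul (α := Ω)
    intro β
    by_cases hβ : β = ω
    · rw [hβ]
      have h1 : (x : G) • ω = ω := x.2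
      have h2 : (y : G) • ω = ω := y.2
      rw [h1, h2]
    · exact congrArg Subtype.val (hxy ⟨β, hβ⟩)
  let K := (toPermHom (stabilizer G ω) α).range
  have hK : Nat.card (stabilizer G ω) = Nat.card K :=
    Nat.card_congr (MonoidHom.ofInjective (f := toPermHom (stabilizer G ω) α) toPerm_injective).toEquiv
  have hKtr : IsPretransitive K α := by
    constructor
    intro x y
    obtain ⟨s, hs⟩ := exists_smul_eq (stabilizer G ω) x y
    exact ⟨⟨toPermHom (stabilizer G ω) α s, s, rfl⟩, hs⟩
  rw [hK]
  by_cases hs : Group.IsSolvable K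
  · right; right; left
    have := PrimeDeg.card_dvd (α := α) hs (p := 11) (by norm_num) (by rw [Nat.card_eq_fintype_card, hα])
    simpa using this
  by_cases hA : alternatingGroup α ≤ K
  · right; right; right
    have h1 := Subgroup.card_le_of_le hA
    have : Nontrivial α := Fintype.one_lt_card_iff_nontrivial.1 (by rw [hα]; norm_num)
    rw [Nat.card_eq_fintype_card (α := alternatingGroup α)] at h1
    have h2 := two_mul_card_alternatingGroup (α := α)
    rw [Fintype.card_perm, hα] at h2
    have h3 : Nat.factorial 11 = 39916800 := by decide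
    omega
  rcases S0679.result hα K hs hA with ⟨h4, hst⟩ | ⟨⟨e⟩⟩
  · left
    have hem : Nat.card (Fin 4 ↪ α) = 7920 := by
      rw [Nat.card_eq_fintype_card, Fintype.card_embedding_eq, Fintype.card_fin, hα]
      decide
    have hne : Nonempty (Fin 4 ↪ α) := by
      rw [← Finite.card_pos_iff, hem]; norm_num
    obtain ⟨x⟩ := hne
    have h5 : IsPretransitive K (Fin 4 ↪ α) := h4
    have h6 := @index_stabilizer_of_transitive K (Fin 4 ↪ α) _ _ x h5
    rw [hst x, Subgroup.index_bot, hem] at h6
    exact h6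
  · right; left
    rw [Nat.card_congr e.toEquiv]
    exact S1601.card_PSL

theorem m12_row (A : AS G Ω T) (h : Spor.IsoM12 T) (hn : Nat.card Ω = 12) : T = ⊤ := by
  obtain ⟨e⟩ := h
  have := A.finG
  have := A.finΩ
  have h2 := A.index_dvd_out e
  rw [S2061.result] at h2
  have hT : Nat.card T = 95040 := by
    rw [Nat.card_congr e.toEquiv]
    exact MTwelveType.SylowModel.card_M12
  have h3 := T.index_mul_card
  have hne : Nonempty Ω := by
    rw [← Finite.card_pos_iff, hn]; norm_num
  obtain ⟨ω⟩ := hne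
  have : IsPretransitive G Ω := by
    have := A.two
    exact isPretransitive_of_is_two_pretransitive
  have h4 := (stabilizer G ω).index_mul_card
  rw [index_stabilizer_of_transitive, hn] at h4
  rcases (Nat.dvd_prime Nat.prime_two).1 h2 with h5 | h5
  · exact Subgroup.index_eq_one.1 h5
  · exfalso
    rw [hT, h5] at h3
    rcases stab_card A ω hn with h6 | h6 | h6 | h6
    · omega
    · omega
    · have := Nat.le_of_dvd (by norm_num) h6
      omega
    · omega

end Cfsg.Agent.H384.TwoCycSpor
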