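import Mathlib
import Cfsg.Agent.H400.TwoExcTwD
import Cfsg.Agent.H400.TwoExcSpI
import Cfsg.Agent.H353.TwoBorel
import Cfsg.Agent.H396.CommTab4
import Cfsg.Agent.H392.ExcRows
import Cfsg.Agent.H384.TwoTransPPAS

/-!
# Hub H1: the rows of the exceptional groups of Lie type, `p ∣ n` (from helper400, helper392)

`rowAS_excChev`, `rowAS_twisted`: as in `H400/TwoExcRows`, with the hypothesis `PPowAS` for the family itself.
-/

set_option autoImplicit false

namespace Cfsg.Agent.H384.TwoExcAS

open Cfsg.Agent.H384.TwoTrans Cfsg.Agent.H396 Cfsg.Agent.H400.TwoExc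

universe u v

/-- the rows `²E₆(q)`, `³D₄(q)` -/
theorem rowAS_twisted (P : PPowAS.{u, v} fun p T _ => Cfsg.IsTwistedE6D4Char p T) :
    RowDvd.{u, v} fun p T _ => Cfsg.IsTwistedE6D4Char p T := by
  intro G Ω _ _ T p hp hd A h
  have : Fact p.Prime := ⟨hp⟩
  have hL : Cfsg.IsTwistedE6D4Char p ↥T := h
  obtain ⟨K, i1, i2, i3, q, hq, h⟩ := h
  obtain ⟨r, f, hr, hf, hrf⟩ := (isPrimePow_nat_iff _).1 hq
  rcases h with ⟨hK, ⟨e⟩⟩ | ⟨hK, ⟨e⟩⟩
  · have hn := nTwE6 (p := p) A hq hK e.symm (H353.TwoBorel.normalizer_transitive A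
      ((CommTab.hasCG_twE6 hq hK p).of_equiv e.symm) hd)
    rw [← hrf, ← pow_mul] at hn
    exact P.of_dvd A hp hL hd hr hn
  · have hn := nTwD4 (p := p) A hq hK e.symm (H353.TwoBorel.normalizer_transitive A
      ((CommTab.hasCG_D4 hq hK p).of_equiv e.symm) hd)
    rw [← hrf, ← pow_mul] at hn
    exact P.of_dvd A hp hL hd hr hn

/-- the rows `G₂(q)`, `F₄(q)`, `E₆(q)`, `E₇(q)`, `E₈(q)` -/
theorem rowAS_excChev (P : PPowAS.{u, v} fun p T _ => Cfsg.IsExceptionalChevChar p T) :
    RowDvd.{u, v} fun p T _ => Cfsg.IsExceptionalChevChar p T := by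
  intro G Ω _ _ T p hp hd A h
  have : Fact p.Prime := ⟨hp⟩
  have hL : Cfsg.IsExceptionalChevChar p ↥T := h
  obtain ⟨F, i1, i2, i3, h⟩ := h
  obtain ⟨f, -, hf⟩ := FiniteField.card F p
  have hf' : Nat.card F = p ^ (f : ℕ) := by rw [Nat.card_eq_fintype_card, hf]
  have key : ∀ a : ℕ, Nat.card Ω = Nat.card F ^ a → Known2 ↥T (Nat.card Ω) := by
    intro a hn
    rw [hf', ← pow_mul] at hn
    exact P hp A hL hn
  rcases h with ⟨h3, ⟨e⟩⟩ | ⟨⟨e⟩⟩ | ⟨⟨e⟩⟩ | ⟨⟨e⟩⟩ | ⟨⟨e⟩⟩
  · rcases Nat.lt_or_ge 3 (Fintype.card F) with h4 | h4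
    · have hCG : HasCG p ↥T := by
        refine (CommTab.hasCG_G2 F p ?_).of_equiv e.symm
        classical
        have h5 : 2 < Fintype.card Fˣ := by rw [Fintype.card_units]; omega
        obtain ⟨x, y, z, h6, h7, h8⟩ := Fintype.two_lt_card_iff.1 h5
        by_cases hx : x = 1
        · subst hx
          exact ⟨y, z, y.ne_zero, fun h => h6 (Units.ext h.symm), z.ne_zero, fun h => h7 (Units.ext h.symm),
            fun h => h8 (Units.ext h)⟩
        · by_cases hy : y = 1
          · subst hy
            exact ⟨x, z, x.ne_zero, fun h => hx (Units.ext h), z.ne_zero, fun h => h8 (Units.ext h.symm),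
              fun h => h7 (Units.ext h)⟩
          · exact ⟨x, y, x.ne_zero, fun h => hx (Units.ext h), y.ne_zero, fun h => hy (Units.ext h),
              fun h => h6 (Units.ext h)⟩
      have hB := H353.TwoBorel.normalizer_transitive A hCG hd
      by_cases h3p : p = 3
      · subst h3p
        rcases Sp.nG2_three A e.symm hB with hn | hn
        · exact key _ hn
        · exact key _ hn
      · rcases nG2 (p := p) A e.symm h3p hB with hn | hn
        · exact key _ hn
        · exact key _ hn
    · have h5 : Fintype.card F = 3 := le_antisymm h4 h3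
      have h6 : p = 3 := CommTab.char_eq_of_card Nat.prime_three h5
      subst h6
      obtain ⟨a, ha⟩ := H392.GTwoDeg.degree A h5 e hd
      exact P hp A hL ha
  · rcases Nat.lt_or_ge 2 (Fintype.card F) with h4 | h4
    · have hCG : HasCG p ↥T := (CommTab.hasCG_F4 F p (CommTab.exists_ne h4)).of_equiv e.symm
      have hB := H353.TwoBorel.normalizer_transitive A hCG hd
      by_cases h2p : p = 2
      · subst h2p
        have hK : 4 ≤ Nat.card F := by
          rw [hf']
          rw [hf] at h4
          have h5 : 2 ≤ (f : ℕ) := by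
            by_contra hcon
            have h6 : (f : ℕ) = 1 := by
              have := f.pos
              omega
            rw [h6] at h4
            norm_num at h4
          calc 4 = 2 ^ 2 := by norm_num
            _ ≤ 2 ^ (f : ℕ) := Nat.pow_le_pow_right (by norm_num) h5
        rcases Sp.nF4_two A e.symm hK hB with hn | hn
        · exact key _ hn
        · exact key _ hn
      · rcases nF4 (p := p) A e.symm h2p hB with hn | hn
        · exact key _ hn
        · exact key _ hn
    · have h5 : Fintype.card F = 2 := le_antisymm h4 Fintype.one_lt_card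
      have h6 : p = 2 := CommTab.char_eq_of_card Nat.prime_two h5
      subst h6
      exact P hp A hL (a := 12) (by rw [H392.FFourTwo.degree' A h5 e hd]; norm_num)
  · exact key _ (nE6 (p := p) A e.symm (H353.TwoBorel.normalizer_transitive A
      ((CommTab.hasCG_E6 F p).of_equiv e.symm) hd))
  · exact key _ (nE7 (p := p) A e.symm (H353.TwoBorel.normalizer_transitive A
      ((CommTab.hasCG_E7 F p).of_equiv e.symm) hd))
  · exact key _ (nE8 (p := p) A e.symm (H353.TwoBorel.normalizer_transitive A
      ((CommTab.hasCG_E8 F p).of_equiv e.symm) hd))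

end Cfsg.Agent.H384.TwoExcAS
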