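import Cfsg.Agent.H384.TwoSporRow
import Cfsg.Agent.H384.TwoExcAS
import Cfsg.Agent.H221.TwoTransPSLRow
import Cfsg.Agent.H387.TwoSpPPRow
import Cfsg.Agent.H667.TwoPSURow
import Cfsg.Agent.H353.TwoOrthRows
import Cfsg.Agent.H125.OrthSame
import Cfsg.Agent.H249.PPTwRow
import Cfsg.Agent.H249.PPExc
import Cfsg.Agent.OrdDiv.Table

/-!
# HUB H1: all the rows (helper384)

`rows` : all rows, from the classification of the finite simple groups.
-/

set_option autoImplicit false

namespace Cfsg.Agent.H384.TwoTrans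

open MulAction Cfsg

universe u v

/-- the classification in the lowest universe -/
theorem known_zero (hS : ∀ (X : Type u) [Group X] [Finite X] [IsSimpleGroup X], IsKnownSimple' X)
    (X : Type) [Group X] [Finite X] [IsSimpleGroup X] : IsKnownSimple' X := by
  let e : X ≃* ULift.{u} X := MulEquiv.ulift.symm
  have : IsSimpleGroup (ULift.{u} X) := (MulEquiv.isSimpleGroup_congr e).1 inferInstance
  have h := hS (ULift.{u} X)
  by_cases hc : IsMulCommutative X
  · have hX := hc
    have hp : (Nat.card X).Prime := by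
      let _ : CommGroup X := { (inferInstance : Group X) with mul_comm := hX.is_comm.comm }
      exact IsSimpleGroup.prime_card
    exact Or.inl hp
  · refine OddHalf.Known.isKnownSimple'_congr e.symm (fun h1 => hc ⟨⟨fun a b => ?_⟩⟩) h
    have := h1.is_comm.comm (ULift.up a) (ULift.up b)
    exact congrArg ULift.down this

theorem PPowAS.of_same {fam : ∀ (_ : ℕ) (T : Type u) [Group T], Prop} (P : H408.PPMain.Same.{u} fam) :
    PPowAS.{u, v} fam :=
  PPowOn.as fun T _ _ p k h1 _ h3 h4 H h5 h6 => P p h3 T h1 h4 H k h5 h6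

/-- all the rows -/
theorem rows (hS : ∀ (X : Type u) [Group X] [Finite X] [IsSimpleGroup X], IsKnownSimple' X) : Rows.{u, v} where
  alt := fun _ _ _ _ _ A h => H503.TwoAlt.main' A h
  spor := spor OrdDiv.table hS
  tits := fun _ _ _ _ _ A h => H503.TwoTits.row A h
  coprime := fun _ _ _ _ _ _ _ hd A h => H410.ASFinal.not_dvd A h hd
  psl := H221.TwoTransPSLRow.psl_row
  psp := H387.TwoSpPPRow.row_psp
  psu := H667.TwoPSURow.row
  pOmegaOdd := H353.TwoOrthRows.rowAS_pOmegaOdd
    (PPowAS.of_same (H125.OrthSame.odd OrdDiv.table (known_zero hS)))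
  pOmegaPlus := H353.TwoOrthRows.rowAS_pOmegaPlus
    (PPowAS.of_same (H125.OrthSame.plus OrdDiv.table (known_zero hS)))
  pOmegaMinus := H353.TwoOrthRows.rowAS_pOmegaMinus
    (PPowAS.of_same (H125.OrthSame.minus OrdDiv.table (known_zero hS)))
  excChev := TwoExcAS.rowAS_excChev
    (PPowAS.of_same (H249.PPExc.excChev OrdDiv.table (known_zero hS)))
  twisted := TwoExcAS.rowAS_twisted
    (PPowAS.of_same (H249.PPTwRow.twisted OrdDiv.table (known_zero hS)))
  sz := fun _ _ _ _ T A h => H125.TwoSz.sz_row T A h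
  twoF4 := H392.TwFFour.row_twoF4
  ree := fun _ _ _ _ T A h => H125.TwoRee.ree_row T A h

end Cfsg.Agent.H384.TwoTrans
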